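import Groth.Agent.BoxLib.EnvMap
import Groth.Agent.SkyOrth.Fibre
import Groth.Agent.DCohLib.PerfCoh

/-!
# Perfect objects over a field are sums of shifts of the structure sheaf
-/

set_option autoImplicit false
set_option backward.isDefEq.respectTransparency false
set_option linter.style.haveILetI false
set_option maxHeartbeats 800000

universe u

open CategoryTheory CategoryTheory.Limits AlgebraicGeometry CategoryTheory.Pretriangulated

attribute [local instance] HasDerivedCategory.standard

noncomputable section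

namespace Groth.Agent.BoxLib

variable {k : CommRingCat.{u}}

/-- The property of being the structure sheaf in degree zero. -/
abbrev unitP (k : CommRingCat.{u}) : ObjectProperty (DCoh.D (Spec k)) :=
  ObjectProperty.ofObj fun _ : PUnit.{u + 1} => DCoh.inD (Spec k) (Coh.structureModule (Spec k))

theorem prop_inD_field (hk : IsField k) (Q : ObjectProperty (DCoh.D (Spec k))) [Q.IsStableUnderRetracts]
    (hzero : ∀ Z, IsZero Z → Q Z) (hbi : ∀ U V, Q U → Q V → Q (U ⊞ V)) (c : ℤ)
    (hO : Q ((DCoh.inD (Spec k) (Coh.structureModule (Spec k)))⟦c⟧)) (N : (Spec k).Modules) (hN : Coh.IsCoh N) :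
    Q ((DCoh.inD (Spec k) N)⟦c⟧) := by
  classical
  obtain ⟨n, a, b, hid⟩ := SkyOrth.exists_id_sum hk N hN
  let O := Coh.structureModule (Spec k)
  let S := DerivedCategory.singleFunctor (Spec k).Modules 0 ⋙ shiftFunctor (DCoh.D (Spec k)) c
  let r : Retract (S.obj N) (⨁ fun _ : Fin n => S.obj O) :=
    ⟨biproduct.lift fun i => S.map (a i), biproduct.desc fun i => S.map (b i), by
      rw [biproduct.lift_desc, ← S.map_id, hid, S.map_sum]
      exact Finset.sum_congr rfl fun i _ => (S.map_comp _ _).symm⟩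
  refine ObjectProperty.prop_of_retract _ r ?_
  clear r hid a b
  induction n with
  | zero =>
    refine hzero _ ((IsZero.iff_id_eq_zero _).2 ?_)
    exact biproduct.hom_ext _ _ fun i => i.elim0
  | succ n ih =>
    refine ObjectProperty.prop_of_retract _ (⟨biprod.lift (biproduct.π _ 0)
      (biproduct.lift fun i : Fin n => biproduct.π (fun _ : Fin (n + 1) => S.obj O) i.succ),
      biprod.desc (biproduct.ι (fun _ : Fin (n + 1) => S.obj O) 0)
        (biproduct.desc fun i : Fin n => biproduct.ι (fun _ : Fin (n + 1) => S.obj O) i.succ), ?_⟩ :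
        Retract _ (S.obj O ⊞ ⨁ fun _ : Fin n => S.obj O))
      (hbi _ _ hO ih)
    rw [biprod.lift_desc, biproduct.lift_desc]
    exact ((Fin.sum_univ_succ (fun i : Fin (n + 1) =>
      biproduct.π (fun _ => S.obj O) i ≫ biproduct.ι (fun _ => S.obj O) i)).symm.trans biproduct.total)

/-- Perfect objects over a field. -/
theorem prop_of_isPerfect_field (hk : IsField k) (Q : ObjectProperty (DCoh.D (Spec k))) [Q.IsStableUnderRetracts]
    (hzero : ∀ Z, IsZero Z → Q Z) (hbi : ∀ U V, Q U → Q V → Q (U ⊞ V)) (a b : ℤ)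
    (hO : ∀ c : ℤ, a ≤ c → c ≤ b → Q ((DCoh.inD (Spec k) (Coh.structureModule (Spec k)))⟦-c⟧))
    (W : DCoh.D (Spec k)) (hW : DCoh.IsPerfect W) [ha : W.IsGE a] [hb : W.IsLE b] : Q W := by
  haveI : IsNoetherianRing k := by letI := hk.toField; infer_instance
  haveI : IsNoetherian (Spec k) := {}
  obtain ⟨hc, -⟩ := DCohLib.isCohD_bounded_of_isPerfect W hW
  obtain ⟨m, hm⟩ : ∃ m : ℕ, b < a + m := ⟨(b - a + 1).toNat, by omega⟩
  clear hW
  revert W b
  induction m with
  | zero =>
    intro b hO W ha hb hc hm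
    refine hzero _ ?_
    exact DerivedCategory.TStructure.t.isZero W b a (by omega)
  | succ m ih =>
    intro b hO W ha hb hc hm
    rcases lt_or_ge b (a + m) with hbm | hbm
    · exact ih b hO W hc hbm
    let t := DerivedCategory.TStructure.t (C := (Spec k).Modules)
    let c : ℤ := a + m
    let T := (t.triangleLTGE c).obj W
    have hT : T ∈ distTriang _ := t.triangleLTGE_distinguished c W
    haveI : W.IsLE c := t.isLE_of_le W b c (by omega)
    haveI : ((t.truncLT c).obj W).IsLE (c - 1) := t.isLE_truncLT_obj W c (c - 1) (by omega)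
    haveI : ((t.truncLT c).obj W).IsGE a := inferInstanceAs (t.IsGE ((t.truncLT c).obj W) a)
    haveI : ((t.truncGE c).obj W).IsGE c := inferInstanceAs (t.IsGE ((t.truncGE c).obj W) c)
    haveI : ((t.truncGE c).obj W).IsLE c := inferInstanceAs (t.IsLE ((t.truncGE c).obj W) c)
    obtain ⟨N, ⟨eN⟩⟩ := DerivedCategory.exists_iso_singleFunctor_obj_of_isGE_of_isLE ((t.truncGE c).obj W) c
    have hN : Coh.IsCoh N := by
      haveI := DCohLib.isIso_homology_truncGEπ W c c le_rfl
      exact DCohLib.isCoh_iso ((asIso ((DerivedCategory.homologyFunctor (Spec k).Modules c).map ((t.truncGEπ c).app W))) ≪≫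
        (DerivedCategory.homologyFunctor (Spec k).Modules c).mapIso eN ≪≫
        (DerivedCategory.singleFunctorCompHomologyFunctorIso (Spec k).Modules c).app N) (hc c)
    have hlow : DCoh.IsCohD ((t.truncLT c).obj W) := fun q => by
      rcases lt_or_ge q c with hq | hq
      · haveI := DCohLib.isIso_homology_truncLTι W c q hq
        exact DCohLib.isCoh_iso (asIso ((DerivedCategory.homologyFunctor (Spec k).Modules q).map ((t.truncLTι c).app W))).symm (hc q)
      · exact DCohLib.isCoh_of_isFinLocFree (DCohLib.isFinLocFree_of_isZero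
          (DerivedCategory.isZero_of_isLE _ (c - 1) q (by omega)))
    let e₃ : (t.truncGE c).obj W ≅ (DCoh.inD (Spec k) N)⟦-c⟧ :=
      eN ≪≫ (((DerivedCategory.singleFunctors (Spec k).Modules).shiftIso (-c) c 0 (by simp)).app N).symm
    have hδ : T.mor₃ = 0 := by
      show T.mor₃ = 0
      rw [← cancel_epi e₃.inv, comp_zero]
      obtain ⟨n, α, β, hid⟩ := SkyOrth.exists_id_sum hk N hN
      let S := DerivedCategory.singleFunctor (Spec k).Modules 0 ⋙ shiftFunctor (DCoh.D (Spec k)) (-c)
      have h1 : e₃.inv ≫ T.mor₃ = S.map (∑ j, α j ≫ β j) ≫ e₃.inv ≫ T.mor₃ := by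
        rw [← hid, S.map_id, Category.id_comp]
      rw [h1, S.map_sum, Preadditive.sum_comp]
      refine Finset.sum_eq_zero fun j _ => ?_
      rw [S.map_comp, Category.assoc]
      suffices h0 : ∀ φ : (DCoh.inD (Spec k) (Coh.structureModule (Spec k)))⟦-c⟧ ⟶ ((t.truncLT c).obj W)⟦(1 : ℤ)⟧, φ = 0 by
        rw [h0 (S.map (β j) ≫ e₃.inv ≫ T.mor₃), comp_zero]
      intro φ
      let adj := (shiftEquiv (DCoh.D (Spec k)) (-c)).toAdjunction
      apply (adj.homEquiv _ _).injective
      let V := (((t.truncLT c).obj W)⟦(1 : ℤ)⟧)⟦-(-c)⟧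
      have hV : V.IsLE (-1) := by
        haveI h1 : t.IsLE (((t.truncLT c).obj W)⟦(1 : ℤ)⟧) (c - 2) := t.isLE_shift _ (c - 1) 1 (c - 2) (by ring)
        haveI h2 : t.IsLE V (-2) := t.isLE_shift _ (c - 2) (-(-c)) (-2) (by ring)
        exact t.isLE_of_le V (-2) (-1) (by norm_num)
      let eO := (DerivedCategory.singleFunctorIsoCompQ (Spec k).Modules 0).app (Coh.structureModule (Spec k))
      have hV0 : ∀ ψ : DCoh.inD (Spec k) (Coh.structureModule (Spec k)) ⟶ V, ψ = 0 := fun ψ => by
        rw [← cancel_epi eO.inv, comp_zero]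
        exact DCohMore.eq_zero_of_isLE_affine V
          (DCohMore.isQCohD_shift' (DCohMore.isQCohD_shift' (fun q => (hlow q).1) 1) _) hV _
      exact (hV0 _).trans (hV0 _).symm
    obtain ⟨e, -, -⟩ := exists_iso_binaryBiproduct_of_distTriang T hT hδ
    refine Q.prop_of_iso e.symm (hbi _ _ (ih (c - 1) (fun c' h h' => hO c' h (by omega)) ((t.truncLT c).obj W) hlow (by omega)) ?_)
    exact Q.prop_of_iso e₃.symm (prop_inD_field hk Q hzero hbi _ (hO c (by omega) (by omega)) N hN)

theorem iter₀_of_isPerfect (hk : IsField k) (W : DCoh.D (Spec k)) (hW : DCoh.IsPerfect W) :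
    (unitP k).triangEnvelopeIter 0 W := by
  haveI : IsNoetherianRing k := by letI := hk.toField; infer_instance
  haveI : IsNoetherian (Spec k) := {}
  obtain ⟨-, a, b, ha, hb⟩ := DCohLib.isCohD_bounded_of_isPerfect W hW
  haveI := ha
  haveI := hb
  exact prop_of_isPerfect_field hk _ (fun Z hZ => zero_iter₀ ⟨_, ObjectProperty.ofObj_apply _ PUnit.unit⟩ Z hZ)
    (fun _ _ => biprod_iter₀) a b (fun _ _ _ => shift_iter₀ _
      (ObjectProperty.le_triangEnvelopeIter _ 0 _ (ObjectProperty.ofObj_apply _ PUnit.unit))) W hW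

end Groth.Agent.BoxLib
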