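import Mathlib.CategoryTheory.Triangulated.Subcategory
import Mathlib.CategoryTheory.Triangulated.HomologicalFunctor

/-!
# Objects on which a homological functor lives in a bounded window of shifts
-/

set_option autoImplicit false
set_option backward.isDefEq.respectTransparency false
set_option linter.unusedSectionVars false

open CategoryTheory CategoryTheory.Limits CategoryTheory.Pretriangulated

noncomputable section

namespace Groth.Agent.BoxLib

universe v₁ u₁ v₂ u₂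

variable {C : Type u₁} [Category.{v₁} C] [HasZeroObject C] [HasShift C ℤ] [Preadditive C]
  [∀ n : ℤ, (shiftFunctor C n).Additive] [Pretriangulated C] (P : ObjectProperty C) [P.IsTriangulated]
  {A : Type u₂} [Category.{v₂} A] [Abelian A] (H : P.FullSubcategory ⥤ A) [H.IsHomological]

/-- The shifts outside of `[-m, m]` are killed. -/
def win (m : ℕ) : ObjectProperty C := fun V =>
  ∃ hV : P V, ∀ i : ℤ, (i < -(m : ℤ) ∨ (m : ℤ) < i) →
    IsZero (H.obj ((shiftFunctor P.FullSubcategory i).obj ⟨V, hV⟩))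

theorem win_mono {m m' : ℕ} (h : m ≤ m') {V : C} (hV : win P H m V) : win P H m' V := by
  obtain ⟨hV, hz⟩ := hV
  exact ⟨hV, fun i hi => hz i (by omega)⟩

theorem win_isZero (m : ℕ) [P.IsClosedUnderIsomorphisms] {Z : C} (hZ : IsZero Z) : win P H m Z :=
  ⟨P.prop_of_isZero hZ, fun i _ => H.map_isZero ((shiftFunctor _ i).map_isZero
    (IsZero.of_full_of_faithful_of_isZero P.ι _ hZ))⟩

theorem win_retract (m : ℕ) {V W : C} (r : Retract V W) (hV : P V) (hW : win P H m W) : win P H m V := by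
  obtain ⟨hW, hz⟩ := hW
  refine ⟨hV, fun i hi => ?_⟩
  let r' : Retract (⟨V, hV⟩ : P.FullSubcategory) ⟨W, hW⟩ :=
    ⟨P.homMk r.i, P.homMk r.r, P.ι.map_injective r.retract⟩
  let s := r'.map (shiftFunctor P.FullSubcategory i ⋙ H)
  exact (IsZero.iff_id_eq_zero _).2 (s.retract.symm.trans ((congrArg (· ≫ s.r) ((hz i hi).eq_of_tgt s.i 0)).trans zero_comp))

theorem win_triangle (m : ℕ) [P.IsClosedUnderIsomorphisms] (T : Triangle C) (hT : T ∈ distTriang C)
    (h₁ : win P H m T.obj₁) (h₃ : win P H m T.obj₃) : win P H m T.obj₂ := by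
  obtain ⟨h₁, hz₁⟩ := h₁
  obtain ⟨h₃, hz₃⟩ := h₃
  have h₂ : P T.obj₂ := P.ext_of_isTriangulatedClosed₂ T hT h₁ h₃
  refine ⟨h₂, fun i hi => ?_⟩
  let T' : Triangle P.FullSubcategory := Triangle.mk (X := ⟨T.obj₁, h₁⟩) (Y := ⟨T.obj₂, h₂⟩) (Z := ⟨T.obj₃, h₃⟩)
    (P.homMk T.mor₁) (P.homMk T.mor₂)
    (P.fullyFaithfulι.preimage (X := ⟨T.obj₃, h₃⟩) (T.mor₃ ≫ (P.ι.commShiftIso (1 : ℤ)).inv.app ⟨T.obj₁, h₁⟩))
  have hT' : T' ∈ distTriang P.FullSubcategory := by
    refine (P.ι.map_distinguished_iff T').1 (isomorphic_distinguished _ hT _ ?_)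
    refine Triangle.isoMk _ _ (Iso.refl _) (Iso.refl _) (Iso.refl _) ((Category.comp_id _).trans (Category.id_comp _).symm)
      ((Category.comp_id _).trans (Category.id_comp _).symm) ?_
    show (P.ι.map T'.mor₃ ≫ (P.ι.commShiftIso (1 : ℤ)).hom.app _) ≫ (𝟙 T.obj₁)⟦(1 : ℤ)⟧' = 𝟙 T.obj₃ ≫ T.mor₃
    erw [CategoryTheory.Functor.map_id, Category.comp_id, Category.id_comp]
    show P.ι.map (P.fullyFaithfulι.preimage (X := ⟨T.obj₃, h₃⟩) _) ≫ _ = _
    rw [Functor.FullyFaithful.map_preimage]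
    exact (Category.assoc _ _ _).trans (by erw [Iso.inv_hom_id_app]; exact Category.comp_id _)
  exact (H.map_distinguished_exact _ (Triangle.shift_distinguished T' hT' i)).isZero_of_both_zeros
    ((hz₁ i hi).eq_of_src _ _) ((hz₃ i hi).eq_of_tgt _ _)

theorem win_biprod (m : ℕ) [P.IsClosedUnderIsomorphisms] {U V : C} (hU : win P H m U) (hV : win P H m V) :
    win P H m (U ⊞ V) :=
  win_triangle P H m _ (binaryBiproductTriangle_distinguished U V) hU hV

theorem win_iso (m : ℕ) [P.IsClosedUnderIsomorphisms] {U V : C} (e : U ≅ V) (hU : win P H m U) : win P H m V :=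
  win_retract P H m (Retract.ofIso e.symm) (P.prop_of_iso e hU.1) hU

theorem win_shift (m : ℕ) (j : ℤ) {V : C} (hV : win P H m V) : win P H (m + j.natAbs) (V⟦j⟧) := by
  obtain ⟨hV, hz⟩ := hV
  refine ⟨P.le_shift j _ hV, fun i hi => (hz (j + i) (by omega)).of_iso (H.mapIso ?_)⟩
  exact (shiftFunctor P.FullSubcategory i).mapIso
      (P.fullyFaithfulι.preimageIso (X := ⟨V⟦j⟧, P.le_shift j _ hV⟩) (Y := (shiftFunctor P.FullSubcategory j).obj ⟨V, hV⟩)
        ((P.ι.commShiftIso j).app ⟨V, hV⟩).symm) ≪≫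
    ((shiftFunctorAdd P.FullSubcategory j i).app ⟨V, hV⟩).symm

end Groth.Agent.BoxLib
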