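import Groth.Agent.BoxLib.Kernel
import Groth.Agent.BoxLib.SplitField
import Groth.Agent.BoxLib.Window
import Groth.Agent.DCohMore.ThickGen
import Groth.Agent.DCohLib.TensorComp

/-!
# Homological functors on perfect objects are bounded on coherent sheaves
-/

set_option autoImplicit false
set_option backward.isDefEq.respectTransparency false
set_option linter.style.haveILetI false
set_option maxHeartbeats 2000000

universe u v' u'

open CategoryTheory CategoryTheory.Limits AlgebraicGeometry CategoryTheory.Pretriangulated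

attribute [local instance] HasDerivedCategory.standard

noncomputable section

namespace Groth.Agent.BoxLib

open Groth.Agent.DCohLib Groth.Agent.DCohMore Groth.Agent.FMKLib

variable {X : Scheme.{u}}

/-- A coherent module tensored with a finite locally free one sits in degree zero. -/
theorem amp_lTensorCx_flf (F : DCoh.D X) [F.IsGE 0] [F.IsLE 0] (A : CochainComplex X.Modules ℤ) (hA : DCoh.IsKFlat A)
    (eA : DerivedCategory.Q.obj A ≅ F) [DCoh.HasLTensorCx A] {E : X.Modules} (hE : FlatMod.IsFinLocFree E) :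
    ((DCoh.LTensorCx A).obj (DCoh.inD X E)).IsGE 0 ∧ ((DCoh.LTensorCx A).obj (DCoh.inD X E)).IsLE 0 := by
  let t := DerivedCategory.TStructure.t (C := X.Modules)
  obtain ⟨M, ⟨eM⟩⟩ := DerivedCategory.exists_iso_singleFunctor_obj_of_isGE_of_isLE F 0
  haveI := hasLTensorCx (sgl₀ E)
  obtain ⟨sy⟩ := FMPerfLib.nonempty_lTensorCx_symm A (DCoh.inD X E) (sgl₀ E) (isKFlat_sgl_flf hE)
    ((DerivedCategory.singleFunctorIsoCompQ X.Modules 0).app E).symm
  let e : (DCoh.LTensorCx A).obj (DCoh.inD X E) ≅ DCoh.inD X (CohB1.tensorMod M E) :=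
    sy ≪≫ (DCoh.LTensorCx (sgl₀ E)).mapIso (eA ≪≫ eM ≪≫ (DerivedCategory.singleFunctorIsoCompQ X.Modules 0).app M) ≪≫
      (lTensorQIso (sgl₀ E) (isKFlat_sgl_flf hE)).app (sgl₀ M) ≪≫ (sglTensorIso M E).symm
  exact ⟨t.isGE_of_iso (X := DCoh.inD X (CohB1.tensorMod M E)) e.symm 0,
    t.isLE_of_iso (X := DCoh.inD X (CohB1.tensorMod M E)) e.symm 0⟩

/-- Boundedness on coherent sheaves. -/
theorem exists_bound (k : Type u) [Field k] (X : Scheme.{u}) [X.Over (Spec (.of k))] [Smooth (X ↘ Spec (.of k))]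
    [IsProper (X ↘ Spec (.of k))] [ObjectProperty.IsTriangulated (fun K : DCoh.D X => DCoh.IsPerfect K)]
    {A : Type u'} [Category.{v'} A] [Abelian A]
    (H : (ObjectProperty.FullSubcategory (fun K : DCoh.D X => DCoh.IsPerfect K)) ⥤ A) [H.IsHomological]
    (hfin : ∀ K : (ObjectProperty.FullSubcategory (fun K : DCoh.D X => DCoh.IsPerfect K)),
      Set.Finite {i : ℤ | ¬ IsZero (H.obj ((shiftFunctor (ObjectProperty.FullSubcategory (fun K : DCoh.D X => DCoh.IsPerfect K)) i).obj K))}) :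
    ∃ m : ℕ, 1 ≤ m ∧ ∀ (F : X.Modules), Coh.IsCoh F → ∀ (hF : DCoh.IsPerfect (DCoh.inD X F)) (i : ℤ),
      (i < -(m : ℤ) ∨ (m : ℤ) < i) →
        IsZero (H.obj ((shiftFunctor (ObjectProperty.FullSubcategory (fun K : DCoh.D X => DCoh.IsPerfect K)) i).obj ⟨DCoh.inD X F, hF⟩)) := by
  classical
  let Pf : ObjectProperty (DCoh.D X) := fun K => DCoh.IsPerfect K
  haveI : Pf.IsClosedUnderIsomorphisms := ⟨fun e h => isPerfect_iso e h⟩
  let s := X ↘ Spec (CommRingCat.of k)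
  let S := Spec (CommRingCat.of k)
  haveI : IsLocallyNoetherian X := LocallyOfFiniteType.isLocallyNoetherian s
  haveI : CompactSpace X := QuasiCompact.compactSpace_of_compactSpace s
  haveI : IsNoetherian X := {}
  haveI : IsNoetherian S := {}
  obtain ⟨E, G, hE, hG, hΔ⟩ := diagonal_mem_envelope k X
  let P := pullback s s
  let p := pullback.fst s s
  let q := pullback.snd s s
  haveI := hasLpull p
  haveI := hasLpull s
  haveI := BC.hasRpush q
  haveI := BC.hasRpush s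
  haveI := hasLTensorCx (sgl₀ G)
  haveI : SiteCmp.HasRpushD (ModSite.RMor.ofScheme q) := ‹DCoh.HasRpush q›
  haveI : SiteCmp.HasRpushD (ModSite.RMor.ofScheme s) := ‹DCoh.HasRpush s›
  obtain ⟨h₁, h₂⟩ := SiteCmpLib.exists_triangulated_rpushD (ModSite.RMor.ofScheme q)
  letI : (DCoh.Rpush q).CommShift ℤ := h₁
  haveI : (DCoh.Rpush q).IsTriangulated := h₂
  obtain ⟨h₁', h₂'⟩ := SiteCmpLib.exists_triangulated_rpushD (ModSite.RMor.ofScheme s)
  letI : (DCoh.Rpush s).CommShift ℤ := h₁'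
  haveI : (DCoh.Rpush s).IsTriangulated := h₂'
  letI : (DCoh.Lpull s).CommShift ℤ := (lpullRpushAdj s).leftAdjointCommShift ℤ
  haveI := (lpullRpushAdj s).commShift_of_rightAdjoint ℤ
  haveI := (lpullRpushAdj s).isTriangulated_leftAdjoint
  let Kp : X.Modules → CochainComplex P.Modules ℤ := fun F =>
    (resX P).obj (DerivedCategory.Q.objPreimage ((DCoh.Lpull p).obj (DCoh.inD X F)))
  haveI : ∀ F, DCoh.HasLTensorCx (Kp F) := fun F => hasLTensorCx _
  let Φ : X.Modules → DCoh.D P ⥤ DCoh.D X := fun F => DCoh.LTensorCx (Kp F) ⋙ DCoh.Rpush q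
  haveI : ∀ F, (Φ F).Additive := fun F => by
    haveI := additive_lTensorCx (Kp F) (isKFlat_resX _)
    infer_instance
  have hsh : ∀ (F : X.Modules) (N : DCoh.D P) (j : ℤ), Nonempty ((Φ F).obj (N⟦j⟧) ≅ ((Φ F).obj N)⟦j⟧) := fun F N j =>
    ⟨(DCoh.Rpush q).mapIso (FMPerfLib.lTensorShift (Kp F) (isKFlat_resX _) N j) ≪≫ ((DCoh.Rpush q).commShiftIso j).app _⟩
  let R : ObjectProperty (DCoh.D P) := fun N => ∃ m : ℕ, ∀ F : X.Modules, Coh.IsCoh F →
    DCoh.IsPerfect (DCoh.inD X F) → win Pf H m ((Φ F).obj N)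
  haveI : R.IsClosedUnderIsomorphisms := ⟨fun {N N'} e ⟨m, hm⟩ =>
    ⟨m, fun F hF hp => win_iso Pf H m ((Φ F).mapIso e) (hm F hF hp)⟩⟩
  haveI : R.IsStableUnderRetracts := ⟨fun {N N'} r ⟨m, hm⟩ => ⟨m, fun F hF hp =>
    win_retract Pf H m (r.map (Φ F)) (isPerfect_of_retract (r.map (Φ F)) (hm F hF hp).1) (hm F hF hp)⟩⟩
  haveI : R.ContainsZero := ⟨_, isZero_zero _, ⟨0, fun F _ _ => win_isZero Pf H 0 ((Φ F).map_isZero (isZero_zero _))⟩⟩
  haveI : R.IsStableUnderShift ℤ := ⟨fun j => ⟨fun N ⟨m, hm⟩ => ⟨m + j.natAbs, fun F hF hp =>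
    win_iso Pf H _ (hsh F N j).some.symm (win_shift Pf H m j (hm F hF hp))⟩⟩⟩
  haveI : R.IsTriangulatedClosed₂ := .mk' fun T hT ⟨m₁, hm₁⟩ ⟨m₃, hm₃⟩ => ⟨max m₁ m₃, fun F hF hp => by
    obtain ⟨T', hT', ⟨e₁⟩, ⟨e₂⟩, ⟨e₃⟩⟩ := tri_lTensorCx (Kp F) T hT
    refine win_iso Pf H _ ((DCoh.Rpush q).mapIso e₂) (win_triangle Pf H _ _ ((DCoh.Rpush q).map_distinguished T' hT')
      (win_iso Pf H _ ((DCoh.Rpush q).mapIso e₁).symm (win_mono Pf H (le_max_left _ _) (hm₁ F hF hp)))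
      (win_iso Pf H _ ((DCoh.Rpush q).mapIso e₃).symm (win_mono Pf H (le_max_right _ _) (hm₃ F hF hp))))⟩
  haveI : R.IsTriangulated := {}
  obtain ⟨N₀, hN₀⟩ := exists_isLE_rpush_qcoh s
  have hbox : R (DCoh.inD P (CohB1.tensorMod ((Scheme.Modules.pullback p).obj E) ((Scheme.Modules.pullback q).obj G))) := by
    obtain ⟨B, hB⟩ : ∃ B : ℕ, ∀ i ∈ {i : ℤ | ¬ IsZero (H.obj ((shiftFunctor Pf.FullSubcategory i).obj
        ⟨DCoh.inD X G, isPerfect_inD hG⟩))}, i.natAbs ≤ B := by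
      obtain ⟨S', hS'⟩ := (hfin ⟨DCoh.inD X G, isPerfect_inD hG⟩).exists_finset
      exact ⟨S'.sup Int.natAbs, fun i hi => Finset.le_sup ((hS' i).2 hi)⟩
    have hG0 : win Pf H B (DCoh.inD X G) := ⟨isPerfect_inD hG, fun i hi => by
      by_contra hne
      have := hB i hne
      omega⟩
    refine ⟨B + N₀, fun F hF hp => ?_⟩
    let A := (resX X).obj (DerivedCategory.Q.objPreimage (DCoh.inD X F))
    haveI := hasLTensorCx A
    have hAp : DCoh.IsPerfect (DerivedCategory.Q.obj A) := isPerfect_iso (resXIso _).symm hp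
    obtain ⟨c⟩ := nonempty_phi_box s hE hG A (isKFlat_resX _) hAp (Kp F) (isKFlat_resX _)
      (resXIso _ ≪≫ (DCoh.Lpull p).mapIso (resXIso _).symm)
    refine win_iso Pf H _ c.symm ?_
    let W := (DCoh.LTensorCx A).obj (DCoh.inD X E)
    have hW : DCoh.IsPerfect W := isPerfect_lTensor A (isKFlat_resX _) hAp _ (isPerfect_inD hE)
    haveI : (DCoh.inD X F).IsGE 0 := inferInstanceAs (((DerivedCategory.singleFunctor X.Modules 0).obj F).IsGE 0)
    haveI : (DCoh.inD X F).IsLE 0 := inferInstanceAs (((DerivedCategory.singleFunctor X.Modules 0).obj F).IsLE 0)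
    obtain ⟨hWge, hWle⟩ := amp_lTensorCx_flf (DCoh.inD X F) A (isKFlat_resX _) (resXIso _) hE
    haveI := hWge
    haveI : ((DCoh.Rpush s).obj W).IsGE 0 := isGE_rpush s W 0
    haveI : ((DCoh.Rpush s).obj W).IsLE (0 + N₀) := hN₀ W 0 (DCohMore.isQCohD_of_isPerfect hW) hWle
    have hR : DCoh.IsPerfect ((DCoh.Rpush s).obj W) := by
      letI : S.Over (Spec (CommRingCat.of k)) := ⟨𝟙 _⟩
      haveI : Smooth (S ↘ Spec (CommRingCat.of k)) := inferInstanceAs (Smooth (𝟙 _))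
      exact ProperTest.isPerfect_rpush_of_regular s (fun z => S1535.result k S z) W hW
    haveI := additive_lTensorCx (sgl₀ G) (isKFlat_sgl_flf hG)
    let Ψ := DCoh.Lpull s ⋙ DCoh.LTensorCx (sgl₀ G)
    let O := Coh.structureModule S
    haveI : IsIso ((BC.lamN s 0).app O) :=
      BC.isIso_lamN_app_flat s 0 _ ((isFlat_iff _).2 (SiteBase.ExtZeroPre.isFlat_unit S.sheaf))
    let eU : (DCoh.Lpull s).obj (DCoh.inD S O) ≅ DCoh.inD X (Coh.structureModule X) :=
      asIso ((BC.lamN s 0).app O) ≪≫ (BC.TT X 0).mapIso (pullStructureIso s)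
    obtain ⟨sy⟩ := nonempty_symCxSch (unitCx X) (sgl₀ G)
    haveI := isIso_lTensorCounit_app_of_isKFlat (sgl₀ G) (isKFlat_sgl_flf hG) (unitCx X)
    let eG : Ψ.obj (DCoh.inD S O) ≅ DCoh.inD X G :=
      (DCoh.LTensorCx (sgl₀ G)).mapIso (eU ≪≫ unitDIso) ≪≫ asIso ((lTensorCounit (sgl₀ G)).app (unitCx X)) ≪≫
        DerivedCategory.Q.mapIso (sy ≪≫ tensorUnitCxIso.app (sgl₀ G)) ≪≫
        ((DerivedCategory.singleFunctorIsoCompQ X.Modules 0).app G).symm
    haveI : ((win Pf H (B + N₀)).inverseImage Ψ).IsStableUnderRetracts := ⟨fun r hV =>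
      win_retract Pf H _ (r.map Ψ) (isPerfect_of_retract (r.map Ψ) hV.1) hV⟩
    haveI : PreservesBinaryBiproducts Ψ := preservesBinaryBiproducts_of_preservesBiproducts Ψ
    exact prop_of_isPerfect_field (Field.toIsField k) ((win Pf H (B + N₀)).inverseImage Ψ)
      (fun Z hZ => win_isZero Pf H _ (Ψ.map_isZero hZ))
      (fun U V hU hV => win_iso Pf H _ (Ψ.mapBiprod U V).symm (win_biprod Pf H _ hU hV)) 0 (0 + N₀)
      (fun c hc hc' => by
        refine win_iso Pf H _ ((DCoh.LTensorCx (sgl₀ G)).mapIso (((DCoh.Lpull s).commShiftIso (-c)).app _) ≪≫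
          FMPerfLib.lTensorShift _ (isKFlat_sgl_flf hG) _ (-c) ≪≫
          (shiftFunctor (DCoh.D X) (-c)).mapIso eG).symm ?_
        exact win_mono Pf H (show B + (-c).natAbs ≤ B + N₀ by omega) (win_shift Pf H B (-c) hG0))
      ((DCoh.Rpush s).obj W) hR
  have hle := (ObjectProperty.triangEnvelope_le_iff (ObjectProperty.ofObj fun _ : PUnit.{u + 1} => DCoh.inD P
      (CohB1.tensorMod ((Scheme.Modules.pullback p).obj E) ((Scheme.Modules.pullback q).obj G))) (Q := R)).2 (by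
    rintro _ ⟨⟨⟩⟩
    exact hbox)
  obtain ⟨m, hm⟩ := hle _ hΔ
  refine ⟨m + 1, Nat.le_add_left 1 m, fun F hF hp i hi => ?_⟩
  obtain ⟨φ⟩ := nonempty_phi_diag s (DCoh.inD X F) (Kp F) (isKFlat_resX _) (resXIso _)
  obtain ⟨_, hz⟩ := win_mono Pf H (Nat.le_add_right m 1) (win_iso Pf H m φ (hm F hF hp))
  exact hz i hi

end Groth.Agent.BoxLib
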