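import Groth.Agent.ResPropLib.Affine
import Groth.Agent.DefExtLib.HomIso
import Groth.Agent.AmpleLib.Tensor
import Groth.Agent.DCohMore.DualFlf
import Groth.Agent.DCohMore.DescFPPF

/-!
# Box products surject onto quasi-coherent modules of finite type on a fibre product
-/

set_option autoImplicit false
set_option backward.isDefEq.respectTransparency false
set_option backward.isDefEq.respectTransparency.types false
set_option linter.style.haveILetI false
set_option maxHeartbeats 800000

universe u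

open CategoryTheory CategoryTheory.Limits AlgebraicGeometry TopologicalSpace Opposite
open Groth.Agent.PullbackMod Groth.Agent.DCohLib Groth.Agent.StalkHomLib
open scoped TensorProduct

noncomputable section

namespace Groth.Agent.BoxLib

variable {P X Y : Scheme.{u}}

theorem bijective_stalk_of_isIso_restrict {M N : P.Modules} (φ : M ⟶ N) (U : P.Opens)
    (h : IsIso ((Scheme.Modules.restrictFunctor U.ι).map φ)) {x : P} (hx : x ∈ U) :
    Function.Bijective (stalkLin φ x) := by
  let y : (U : Scheme.{u}) := ⟨x, hx⟩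
  have h1 : Function.Bijective (stalkLin ((Scheme.Modules.restrictFunctor U.ι).map φ) y) :=
    (isIso_iff_stalk _).1 h y
  have hnat := (Scheme.Modules.restrictStalkNatIso U.ι y).hom.naturality φ
  let eM := ((Scheme.Modules.restrictStalkNatIso U.ι y).app M).addCommGroupIsoToAddEquiv
  let eN := ((Scheme.Modules.restrictStalkNatIso U.ι y).app N).addCommGroupIsoToAddEquiv
  have h2 : ∀ m, stalkLin φ x (eM m) = eN (stalkLin ((Scheme.Modules.restrictFunctor U.ι).map φ) y m) :=
    fun m => (ConcreteCategory.congr_hom hnat m).symm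
  refine ⟨fun a b hab => ?_, fun c => ?_⟩
  · obtain ⟨a, rfl⟩ := eM.surjective a
    obtain ⟨b, rfl⟩ := eM.surjective b
    exact congrArg eM (h1.1 (eN.injective ((h2 a).symm.trans (hab.trans (h2 b)))))
  · obtain ⟨m, hm⟩ := h1.2 (eN.symm c)
    exact ⟨eM m, (h2 m).trans (by rw [hm]; exact eN.apply_symm_apply c)⟩

theorem surjective_stalk_of_epi_restrict {M N : P.Modules} (φ : M ⟶ N) (U : P.Opens)
    (h : Epi ((Scheme.Modules.restrictFunctor U.ι).map φ)) {x : P} (hx : x ∈ U) :
    Function.Surjective (stalkLin φ x) := by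
  let y : (U : Scheme.{u}) := ⟨x, hx⟩
  let eM := ((Scheme.Modules.restrictStalkNatIso U.ι y).app M).addCommGroupIsoToAddEquiv
  let eN := ((Scheme.Modules.restrictStalkNatIso U.ι y).app N).addCommGroupIsoToAddEquiv
  have h2 : ∀ m, stalkLin φ x (eM m) = eN (stalkLin ((Scheme.Modules.restrictFunctor U.ι).map φ) y m) :=
    fun m => (ConcreteCategory.congr_hom ((Scheme.Modules.restrictStalkNatIso U.ι y).hom.naturality φ) m).symm
  intro c
  obtain ⟨m, hm⟩ := (epi_iff_stalk _).1 h y (eN.symm c)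
  exact ⟨eM m, (h2 m).trans (by rw [hm]; exact eN.apply_symm_apply c)⟩

/-- On a scheme affine over one with the resolution property, modules of finite type are quotients of
pullbacks of finite locally free modules. -/
theorem exists_epi_pullback {U : Scheme.{u}} (f : U ⟶ X) [IsAffineHom f] [CompactSpace ↥X]
    [QuasiSeparatedSpace ↥X] (hX : PerfAux.HasResolutionProperty X) (M : U.Modules) [Coh.IsQCoh M]
    (hM : CohB1.IsFT M) :
    ∃ (E : X.Modules) (φ : (Scheme.Modules.pullback f).obj E ⟶ M), FlatMod.IsFinLocFree E ∧ Epi φ := by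
  classical
  obtain ⟨T, hT, e⟩ := (isCompact_and_isOpen_iff_finite_and_eq_biUnion_affineOpens (U := (Set.univ : Set X))).1
    ⟨isCompact_univ, isOpen_univ⟩
  haveI := hT.fintype
  have haff : ∀ t : T, IsAffineOpen (f ⁻¹ᵁ t.1.1) := fun t => t.1.2.preimage f
  choose S hS using fun t : T => (QCohLib.finite_sections M hM (haff t)).fg_top
  choose E φ hE hφ using fun p : Σ t : T, S t => ResPropLib.exists_map_through f hX M p.1.1.2 p.2.1
  let ε := Fintype.equivFin (Σ t : T, S t)
  let G : Fin (Fintype.card (Σ t : T, S t)) → X.Modules := fun k => E (ε.symm k)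
  haveI := (Scheme.Modules.pullbackPushforwardAdjunction f).leftAdjoint_preservesColimits
  let c := PreservesCoproduct.iso (Scheme.Modules.pullback f) G
  refine ⟨∐ G, c.hom ≫ Sigma.desc fun k => φ (ε.symm k), ResPropLib.isFinLocFree_sigma _ _ fun k => hE _, ?_⟩
  haveI : Epi (Sigma.desc fun k => φ (ε.symm k)) := (epi_iff_stalk _).2 fun x => by
    rw [← LinearMap.range_eq_top]
    obtain ⟨a, ha, hxa⟩ := Set.mem_iUnion₂.mp (e.le (Set.mem_univ (f x)))
    let t : T := ⟨a, ha⟩
    have hx : x ∈ f ⁻¹ᵁ t.1.1 := hxa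
    refine eq_top_iff.2 ((ResPropLib.span_germ_eq_top M (haff t) hx _ (hS t)).ge.trans (Submodule.span_le.2 ?_))
    rintro _ ⟨s, hs, rfl⟩
    obtain ⟨k, hk⟩ := ε.symm.surjective ⟨t, ⟨s, hs⟩⟩
    have h3 := ResPropLib.range_stalkLin_le (fun k => φ (ε.symm k)) k x
    refine h3 ?_
    rw [hk]
    exact hφ ⟨t, ⟨s, hs⟩⟩ x hx
  exact epi_comp _ _

variable (p : P ⟶ X) (q : P ⟶ Y)

/-- Over the preimage of an open affine over the first factor, a box product surjects. -/
theorem exists_local [CompactSpace ↥X] [QuasiSeparatedSpace ↥X] [CompactSpace ↥Y] [QuasiSeparatedSpace ↥Y]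
    [QuasiCompact q] [QuasiSeparated q] (hX : PerfAux.HasResolutionProperty X) (hY : PerfAux.HasResolutionProperty Y)
    (F : P.Modules) [Coh.IsQCoh F] (hFT : CohB1.IsFT F) {V : Y.Opens} (hV : IsAffineOpen V)
    [IsAffineHom ((q ⁻¹ᵁ V).ι ≫ p)] :
    ∃ (E : X.Modules) (G : Y.Modules), FlatMod.IsFinLocFree E ∧ FlatMod.IsFinLocFree G ∧
      ∃ π : CohB1.tensorMod ((Scheme.Modules.pullback p).obj E) ((Scheme.Modules.pullback q).obj G) ⟶ F,
        ∀ x ∈ q ⁻¹ᵁ V, Function.Surjective (stalkLin π x) := by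
  classical
  let U := q ⁻¹ᵁ V
  let j := U.ι
  let F₀ := (Scheme.Modules.restrictFunctor j).obj F
  haveI : Coh.IsQCoh F₀ :=
    isQCoh_of_iso' ((Scheme.Modules.restrictFunctorIsoPullback j).app F).symm (PullbackMod.isQCoh_pullback j F)
  obtain ⟨E, φ₀, hE, hφ₀⟩ := exists_epi_pullback (j ≫ p) hX F₀ (DCohMore.isFT_restrictFunctor j hFT)
  let PE := (Scheme.Modules.pullback p).obj E
  have hPE : FlatMod.IsFinLocFree PE := isFinLocFree_pullback p E hE
  haveI : Coh.IsQCoh PE := (isQCoh_and_isFP_of_isFinLocFree _ hPE).1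
  let e₀ : (Scheme.Modules.restrictFunctor j).obj PE ≅ (Scheme.Modules.pullback (j ≫ p)).obj E :=
    (Scheme.Modules.restrictFunctorIsoPullback j).app PE ≪≫ (Scheme.Modules.pullbackComp j p).app E
  let adj₀ := Scheme.Modules.restrictAdjunction j
  let φ := adj₀.homEquiv _ _ (e₀.hom ≫ φ₀)
  let u := adj₀.unit.app F
  have hu : ∀ x ∈ U, Function.Bijective (stalkLin u x) := fun x hx => by
    refine bijective_stalk_of_isIso_restrict u U ?_ hx
    have htri := adj₀.left_triangle_components F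
    exact @IsIso.of_isIso_comp_right _ _ _ _ _ _ (adj₀.counit.app F₀) inferInstance (by rw [htri]; infer_instance)
  have hφ : ∀ x ∈ U, Function.Surjective (stalkLin φ x) := fun x hx => by
    refine surjective_stalk_of_epi_restrict φ U ?_ hx
    have htri : (Scheme.Modules.restrictFunctor j).map φ ≫ adj₀.counit.app F₀ = e₀.hom ≫ φ₀ :=
      (adj₀.homEquiv_counit _ _ φ).symm.trans ((adj₀.homEquiv _ _).symm_apply_apply _)
    rw [(IsIso.eq_comp_inv _).2 htri]
    infer_instance
  let f₀ : ∀ x : U, RefHull.StalkHom PE F x.1 := fun x =>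
    (LinearEquiv.ofBijective (stalkLin u x.1) (hu x.1 x.2)).symm.toLinearMap.comp (stalkLin φ x.1)
  have hloc : RefHull.IsLocSect PE F f₀ := fun W i m x => by
    obtain ⟨W₁, hxW₁, n, hn⟩ := TopCat.Presheaf.exists_germ_eq F.presheaf
      (f₀ ⟨x.1, i.le x.2⟩ (PE.presheaf.germ W x.1 x.2 m))
    have hx' : stalkLin u x.1 (F.presheaf.germ W₁ x.1 hxW₁ n) = stalkLin φ x.1 (PE.presheaf.germ W x.1 x.2 m) := by
      rw [hn]
      exact (LinearEquiv.ofBijective (stalkLin u x.1) (hu x.1 (i.le x.2))).apply_symm_apply _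
    replace hx' := (stalkLin_germ u x.1 hxW₁ n).symm.trans (hx'.trans (stalkLin_germ φ x.1 x.2 m))
    obtain ⟨W₂, hxW₂, i₁, i₂, hres⟩ := TopCat.Presheaf.germ_eq _ x.1 _ _ _ _ hx'
    refine ⟨W₂, hxW₂, i₂, F.presheaf.map i₁.op n, fun y => ?_⟩
    rw [TopCat.Presheaf.germ_res_apply]
    apply (hu y.1 (i.le (i₂.le y.2))).1
    refine ((LinearEquiv.ofBijective (stalkLin u y.1) (hu y.1 (i.le (i₂.le y.2)))).apply_symm_apply _).trans ?_
    refine (stalkLin_germ φ y.1 (i₂.le y.2) m).trans (Eq.trans ?_ (stalkLin_germ u y.1 (i₁.le y.2) n).symm)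
    refine (TopCat.Presheaf.germ_res_apply _ i₂ y.1 y.2 _).symm.trans ?_
    refine Eq.trans ?_ (TopCat.Presheaf.germ_res_apply _ i₁ y.1 y.2 _)
    exact (congrArg _ hres).symm
  let f : Γ(RefHull.homSh PE F, U) := ⟨f₀, hloc⟩
  haveI : ModSite.HasSheafHom (O := P.sheaf) PE := ModTensor.hasSheafHom (O := P.sheaf) PE
  haveI := DefExtLib.isIso_toHomSh PE F
  let s : Γ((hF PE).obj F, U) := (inv (DefExtLib.toHomSh PE F)).app U f
  have hs : (DefExtLib.toHomSh PE F).app U s = f := by
    show ((inv (DefExtLib.toHomSh PE F)) ≫ DefExtLib.toHomSh PE F).app U f = f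
    rw [IsIso.inv_hom_id]
    rfl
  haveI : Coh.IsQCoh ((hF PE).obj F) := isQCoh_of_iso' (asIso (DefExtLib.toHomSh PE F)).symm
    (HomLib.isQCoh_homSh_of_isFP (isQCoh_and_isFP_of_isFinLocFree _ hPE).2 inferInstance)
  obtain ⟨G, τ, hG, hτ⟩ := ResPropLib.exists_map_through q hY ((hF PE).obj F) hV s
  let π₀ : tmod ((Scheme.Modules.pullback q).obj G) PE ⟶ F :=
    ((ModSite.sheafHomAdj (O := P.sheaf) PE).homEquiv _ _).symm τ
  refine ⟨E, G, hE, hG, (AmpleLib.comm _ _).hom ≫ π₀, fun x hx => ?_⟩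
  rw [stalkLin_comp, LinearMap.coe_comp]
  refine Function.Surjective.comp ?_ ((isIso_iff_stalk (AmpleLib.comm _ _).hom).1 inferInstance x).2
  intro z
  obtain ⟨c, hc⟩ := hφ x hx (stalkLin u x z)
  obtain ⟨w, hw⟩ := hτ x hx
  refine ⟨stalkTensor x _ PE (w ⊗ₜ c), ?_⟩
  refine (theta_transpose PE τ x w c).symm.trans ?_
  rw [hw, ← DefExtLib.toHomSh_app PE F s ⟨x, hx⟩, hs]
  show (LinearEquiv.ofBijective (stalkLin u x) (hu x hx)).symm (stalkLin φ x c) = z
  rw [hc]
  exact (LinearEquiv.ofBijective (stalkLin u x) (hu x hx)).symm_apply_apply z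

/-- Finitely many box products are dominated by one. -/
theorem exists_global (n : ℕ) (E : Fin n → X.Modules) (G : Fin n → Y.Modules)
    (hE : ∀ t, FlatMod.IsFinLocFree (E t)) (hG : ∀ t, FlatMod.IsFinLocFree (G t)) (F : P.Modules)
    (π : ∀ t, CohB1.tensorMod ((Scheme.Modules.pullback p).obj (E t)) ((Scheme.Modules.pullback q).obj (G t)) ⟶ F)
    (h : ∀ x : P, ∃ t, Function.Surjective (stalkLin (π t) x)) :
    ∃ (E' : X.Modules) (G' : Y.Modules), FlatMod.IsFinLocFree E' ∧ FlatMod.IsFinLocFree G' ∧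
      ∃ π' : CohB1.tensorMod ((Scheme.Modules.pullback p).obj E') ((Scheme.Modules.pullback q).obj G') ⟶ F,
        Epi π' := by
  classical
  let T := DCoh.tensorBi (X := P)
  haveI : ∀ M : P.Modules, (T.obj M).Additive := fun M => inferInstance
  haveI := (Scheme.Modules.pullbackPushforwardAdjunction p).leftAdjoint_preservesColimits
  haveI := (Scheme.Modules.pullbackPushforwardAdjunction q).leftAdjoint_preservesColimits
  let prE : ∀ t, ∐ E ⟶ E t := fun t => Sigma.desc fun s => if hst : s = t then eqToHom (congrArg E hst) else 0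
  let prG : ∀ t, ∐ G ⟶ G t := fun t => Sigma.desc fun s => if hst : s = t then eqToHom (congrArg G hst) else 0
  let P' := (Scheme.Modules.pullback p)
  let Q' := (Scheme.Modules.pullback q)
  let bx : ∀ {A A' : X.Modules} {B B' : Y.Modules}, (A ⟶ A') → (B ⟶ B') →
      (CohB1.tensorMod (P'.obj A) (Q'.obj B) ⟶ CohB1.tensorMod (P'.obj A') (Q'.obj B')) :=
    fun {A A' B B'} a b => (T.map (P'.map a)).app (Q'.obj B) ≫ (T.obj (P'.obj A')).map (Q'.map b)
  let π' : CohB1.tensorMod (P'.obj (∐ E)) (Q'.obj (∐ G)) ⟶ F := ∑ t, bx (prE t) (prG t) ≫ π t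
  have hι : ∀ t, bx (Sigma.ι E t) (Sigma.ι G t) ≫ π' = π t := fun t => by
    rw [Preadditive.comp_sum, Finset.sum_eq_single t]
    · have hcomp : bx (Sigma.ι E t) (Sigma.ι G t) ≫ bx (prE t) (prG t) = 𝟙 _ := by
        simp only [bx, Category.assoc]
        rw [reassoc_of% (T.map (P'.map (prE t))).naturality (Q'.map (Sigma.ι G t)), ← Functor.map_comp,
          ← NatTrans.comp_app_assoc, ← Functor.map_comp, ← Functor.map_comp, ← Functor.map_comp]
        simp [prE, prG]
        rfl
      rw [reassoc_of% hcomp]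
    · intro s _ hst
      have hzero : bx (Sigma.ι E t) (Sigma.ι G t) ≫ bx (prE s) (prG s) = 0 := by
        simp only [bx, Category.assoc]
        rw [reassoc_of% (T.map (P'.map (prE s))).naturality (Q'.map (Sigma.ι G t)), ← Functor.map_comp,
          ← Functor.map_comp]
        simp [prG, (Ne.symm hst)]
      rw [reassoc_of% hzero, zero_comp]
    · simp
  refine ⟨∐ E, ∐ G, ResPropLib.isFinLocFree_sigma n E hE, ResPropLib.isFinLocFree_sigma n G hG, π',
    (epi_iff_stalk π').2 fun x => ?_⟩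
  obtain ⟨t, ht⟩ := h x
  refine Function.Surjective.of_comp (g := stalkLin (bx (Sigma.ι E t) (Sigma.ι G t)) x) ?_
  show Function.Surjective ((stalkLin π' x).comp (stalkLin (bx (Sigma.ι E t) (Sigma.ι G t)) x))
  rw [← stalkLin_comp, hι]
  exact ht

end Groth.Agent.BoxLib
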