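import Groth.Agent.BoxLib.Envelope
import Groth.Agent.BoxLib.Surj
import Groth.Agent.S6717
import Groth.Agent.S1109
import Groth.Agent.S1535
import Groth.Agent.DCohMore.RegPerf
import Groth.Agent.DCohMore.PerfHom
import Groth.Agent.DCohLib.TensorPerf
import Groth.Agent.DCohLib.PerfCoh
import Groth.Agent.SkyOrth.Basic
import Groth.Agent.RegLib.Basic

/-!
# The diagonal of a smooth separated scheme over a field lies in the envelope of one box product
-/

set_option autoImplicit false
set_option backward.isDefEq.respectTransparency false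
set_option linter.style.haveILetI false
set_option maxHeartbeats 800000

universe u

open CategoryTheory CategoryTheory.Limits AlgebraicGeometry

attribute [local instance] HasDerivedCategory.standard

noncomputable section

namespace Groth.Agent.BoxLib

variable {P X Y : Scheme.{u}} (p : P ⟶ X) (q : P ⟶ Y)

/-- Box products are retracts of the box product of the sums. -/
theorem exists_retract (n : ℕ) (E : Fin n → X.Modules) (G : Fin n → Y.Modules) (t : Fin n) :
    Nonempty (Retract (CohB1.tensorMod ((Scheme.Modules.pullback p).obj (E t)) ((Scheme.Modules.pullback q).obj (G t)))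
      (CohB1.tensorMod ((Scheme.Modules.pullback p).obj (∐ E)) ((Scheme.Modules.pullback q).obj (∐ G)))) := by
  classical
  let P' := Scheme.Modules.pullback p
  let Q' := Scheme.Modules.pullback q
  let T := DCoh.tensorBi (X := P)
  let prE : ∐ E ⟶ E t := Sigma.desc fun s => if hst : s = t then eqToHom (congrArg E hst) else 0
  let prG : ∐ G ⟶ G t := Sigma.desc fun s => if hst : s = t then eqToHom (congrArg G hst) else 0
  refine ⟨⟨(T.map (P'.map (Sigma.ι E t))).app (Q'.obj (G t)) ≫ (T.obj (P'.obj (∐ E))).map (Q'.map (Sigma.ι G t)),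
    (T.map (P'.map prE)).app (Q'.obj (∐ G)) ≫ (T.obj (P'.obj (E t))).map (Q'.map prG), ?_⟩⟩
  simp only [Category.assoc]
  rw [reassoc_of% (T.map (P'.map prE)).naturality (Q'.map (Sigma.ι G t)), ← Functor.map_comp,
    ← NatTrans.comp_app_assoc, ← Functor.map_comp, ← Functor.map_comp, ← Functor.map_comp]
  simp [prE, prG]
  rfl

/-- The diagonal of a smooth separated scheme over a field. -/
theorem diagonal_mem_envelope (k : Type u) [Field k] (X : Scheme.{u}) [X.Over (Spec (.of k))] [CompactSpace X]
    [IsSeparated (X ↘ Spec (.of k))] [Smooth (X ↘ Spec (.of k))] :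
    ∃ (E G : X.Modules), FlatMod.IsFinLocFree E ∧ FlatMod.IsFinLocFree G ∧
      ObjectProperty.triangEnvelope
        (ObjectProperty.ofObj (fun _ : PUnit.{u + 1} => DCoh.inD (pullback (X ↘ Spec (.of k)) (X ↘ Spec (.of k)))
          (CohB1.tensorMod ((Scheme.Modules.pullback (pullback.fst (X ↘ Spec (.of k)) (X ↘ Spec (.of k)))).obj E)
            ((Scheme.Modules.pullback (pullback.snd (X ↘ Spec (.of k)) (X ↘ Spec (.of k)))).obj G))))
        (DCoh.inD (pullback (X ↘ Spec (.of k)) (X ↘ Spec (.of k)))
          ((Coh.push (pullback.diagonal (X ↘ Spec (.of k)))).obj (Coh.structureModule X))) := by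
  classical
  let s := X ↘ Spec (CommRingCat.of k)
  haveI : IsLocallyNoetherian X := LocallyOfFiniteType.isLocallyNoetherian s
  haveI : QuasiSeparatedSpace X := (quasiSeparated_iff_quasiSeparatedSpace s).1 inferInstance
  haveI : IsSeparated (terminal.from X) := by rw [← terminal.comp_from s]; infer_instance
  haveI : IsAffineHom (pullback.diagonal (terminal.from X)) := inferInstance
  have hres : PerfAux.HasResolutionProperty X :=
    S1109.result X (fun x => S1535.result k X x) fun U V hU hV => hU.inf hV
  let Pr := pullback s s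
  letI : Pr.Over (Spec (CommRingCat.of k)) := ⟨pullback.fst s s ≫ s⟩
  haveI : Smooth (Pr ↘ Spec (CommRingCat.of k)) := inferInstanceAs (Smooth (pullback.fst s s ≫ s))
  haveI : IsLocallyNoetherian Pr := LocallyOfFiniteType.isLocallyNoetherian (pullback.fst s s)
  haveI : QuasiSeparatedSpace Pr :=
    (quasiSeparated_iff_quasiSeparatedSpace (pullback.fst s s ≫ s)).1 inferInstance
  haveI : CompactSpace Pr := (quasiCompact_iff_compactSpace (pullback.fst s s ≫ s)).1
    (haveI : QuasiCompact s := (quasiCompact_iff_compactSpace s).2 inferInstance; inferInstance)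
  let M := (Coh.push (pullback.diagonal s)).obj (Coh.structureModule X)
  have hM : Coh.IsCoh M := DevLib.isCoh_pushforward_closed _
    (DCohLib.isCoh_of_isFinLocFree (BCLib.isFinLocFree_structureModule X))
  have hstep : ∀ N : Pr.Modules, Coh.IsCoh N → ∃ (E' : Pr.Modules) (φ : E' ⟶ N),
      (∃ (E G : X.Modules), FlatMod.IsFinLocFree E ∧ FlatMod.IsFinLocFree G ∧
        Nonempty (E' ≅ CohB1.tensorMod ((Scheme.Modules.pullback (pullback.fst s s)).obj E)
          ((Scheme.Modules.pullback (pullback.snd s s)).obj G))) ∧ Epi φ ∧ Coh.IsCoh (kernel φ) := fun N hN => by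
    obtain ⟨E, G, hE, hG, φ, hφ⟩ := S6717.result k X X hres hres N hN.1 hN.2
    refine ⟨_, φ, ⟨E, G, hE, hG, ⟨Iso.refl _⟩⟩, hφ, (QCohLib.isCoh_kernel_cokernel φ ?_ hN).1⟩
    exact DCohLib.isCoh_of_isFinLocFree (DCohLib.isFinLocFree_tensor
      (PullbackMod.isFinLocFree_pullback _ _ hE) (PullbackMod.isFinLocFree_pullback _ _ hG))
  haveI : (DCoh.inD Pr M).IsGE 0 := inferInstanceAs (((DerivedCategory.singleFunctor Pr.Modules 0).obj M).IsGE 0)
  haveI : (DCoh.inD Pr M).IsLE 0 := inferInstanceAs (((DerivedCategory.singleFunctor Pr.Modules 0).obj M).IsLE 0)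
  have hMp : DCoh.IsPerfect (DCoh.inD Pr M) := by
    refine DCohMore.isPerfect_of_regular (fun z => S1535.result k Pr z) _ 0 0 fun i => ?_
    rcases eq_or_ne i 0 with rfl | hi
    · exact DCohLib.isCoh_iso ((DerivedCategory.singleFunctorCompHomologyFunctorIso Pr.Modules 0).app _).symm hM
    · refine DCohLib.isCoh_of_isFinLocFree (DCohLib.isFinLocFree_of_isZero ?_)
      rcases lt_or_gt_of_ne hi with hi | hi
      · exact DerivedCategory.isZero_of_isGE _ 0 i hi
      · exact DerivedCategory.isZero_of_isLE _ 0 i hi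
  obtain ⟨b, hb⟩ := DCohMore.exists_vanishing_qcoh hMp
  let N := (-b).toNat
  choose E G hE hG hiso using fun i : Fin N => (hstep _ (syz hstep M hM i).2).choose_spec.choose_spec.1
  refine ⟨∐ E, ∐ G, ResPropLib.isFinLocFree_sigma N E hE, ResPropLib.isFinLocFree_sigma N G hG, ?_⟩
  refine prop_of_resolution hstep M hM _ N (fun i hi => ?_) fun φ => hb _ ?_ ?_ φ
  · obtain ⟨e⟩ := hiso ⟨i, hi⟩
    obtain ⟨r⟩ := exists_retract (pullback.fst s s) (pullback.snd s s) N E G ⟨i, hi⟩
    exact ObjectProperty.prop_of_retract _ (((Retract.ofIso e).trans r).map (DerivedCategory.singleFunctor Pr.Modules 0))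
      (ObjectProperty.le_triangEnvelope _ _ (ObjectProperty.ofObj_apply _ PUnit.unit))
  · exact DCohMore.isQCohD_shift' (RegLib.isQCohD_inD _ (syz hstep M hM N).2.1) _
  · haveI : (((DerivedCategory.singleFunctor Pr.Modules 0).obj (syz hstep M hM N).1)⟦(N : ℤ)⟧).IsLE (0 - N) :=
      DerivedCategory.TStructure.t.isLE_shift _ 0 (N : ℤ) (0 - N) (by ring)
    exact DerivedCategory.TStructure.t.isLE_of_le _ (0 - N) b (by omega)

end Groth.Agent.BoxLib
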