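import Mathlib.CategoryTheory.Triangulated.Generators
import Mathlib.CategoryTheory.Triangulated.Functor

/-!
# Iterated envelopes and triangulated functors
-/

set_option autoImplicit false
set_option backward.isDefEq.respectTransparency false

open CategoryTheory CategoryTheory.Limits CategoryTheory.Pretriangulated

noncomputable section

namespace Groth.Agent.BoxLib

universe v₁ u₁ v₂ u₂

variable {C : Type u₁} [Category.{v₁} C] [HasZeroObject C] [HasShift C ℤ] [Preadditive C]
  [∀ n : ℤ, (shiftFunctor C n).Additive] [Pretriangulated C] {P : ObjectProperty C}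

theorem zero_iter₀ (hP : ∃ X, P X) (Z : C) (hZ : IsZero Z) : P.triangEnvelopeIter 0 Z := by
  obtain ⟨X, hX⟩ := hP
  exact ObjectProperty.prop_of_retract _ ⟨0, 0, hZ.eq_of_src _ _⟩ (P.le_triangEnvelopeIter 0 X hX)

/-- Objects reached without extensions are closed under biproducts. -/
theorem biprod_iter₀ {X Y : C} (hX : P.triangEnvelopeIter 0 X) (hY : P.triangEnvelopeIter 0 Y) :
    P.triangEnvelopeIter 0 (X ⊞ Y) := by
  rw [ObjectProperty.triangEnvelopeIter_zero] at hX hY ⊢
  obtain ⟨X', hX', ⟨rX⟩⟩ := hX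
  obtain ⟨Y', hY', ⟨rY⟩⟩ := hY
  refine ⟨X' ⊞ Y', ?_, ⟨⟨biprod.map rX.i rY.i, biprod.map rX.r rY.r, by ext <;> simp⟩⟩⟩
  exact ObjectProperty.prop_of_iso _ (biprod.isoProd X' Y').symm
    ((P.shiftClosure ℤ).binaryProductsClosure.prop_prod X' Y' hX' hY')

instance isClosedUnderBinaryProducts_iter₀ :
    (P.triangEnvelopeIter 0).IsClosedUnderBinaryProducts where
  limitsOfShape_le := by
    rintro X ⟨pres⟩
    let e : X ≅ pres.diag.obj ⟨WalkingPair.left⟩ ⊞ pres.diag.obj ⟨WalkingPair.right⟩ :=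
      IsLimit.conePointUniqueUpToIso pres.isLimit (limit.isLimit pres.diag) ≪≫
        HasLimit.isoOfNatIso (diagramIsoPair pres.diag) ≪≫ (biprod.isoProd _ _).symm
    exact ObjectProperty.prop_of_iso _ e.symm (biprod_iter₀ (pres.prop_diag_obj _) (pres.prop_diag_obj _))

variable {D : Type u₂} [Category.{v₂} D] [HasZeroObject D] [HasShift D ℤ] [Preadditive D]
  [∀ n : ℤ, (shiftFunctor D n).Additive] [Pretriangulated D]

theorem shift_iter₀ (m : ℤ) {X : C} (hX : P.triangEnvelopeIter 0 X) : P.triangEnvelopeIter 0 (X⟦m⟧) :=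
  ObjectProperty.le_shift _ m _ hX

/-- An additive functor compatible with shifts and triangles on objects respects the filtration by
numbers of extensions. -/
theorem map_iter' (F : C ⥤ D) [F.Additive] (hsh : ∀ (X : C) (m : ℤ), Nonempty (F.obj (X⟦m⟧) ≅ (F.obj X)⟦m⟧))
    (htri : ∀ T ∈ distTriang C, ∃ T' ∈ distTriang D, Nonempty (T'.obj₁ ≅ F.obj T.obj₁) ∧
      Nonempty (T'.obj₂ ≅ F.obj T.obj₂) ∧ Nonempty (T'.obj₃ ≅ F.obj T.obj₃))
    (R : ObjectProperty D) (h : ∀ X, P X → R.triangEnvelopeIter 0 (F.obj X)) :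
    ∀ (n : ℕ) (X : C), P.triangEnvelopeIter n X → R.triangEnvelopeIter n (F.obj X) := by
  haveI : PreservesBinaryBiproducts F := preservesBinaryBiproducts_of_preservesBiproducts F
  haveI : PreservesLimitsOfShape (Discrete WalkingPair) F := preservesBinaryProducts_of_preservesBinaryBiproducts F
  have h0 : ∀ X : C, P.triangEnvelopeIter 0 X → R.triangEnvelopeIter 0 (F.obj X) := by
    rw [ObjectProperty.triangEnvelopeIter_zero]
    show _ ≤ (R.triangEnvelopeIter 0).inverseImage F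
    haveI : ((R.triangEnvelopeIter 0).inverseImage F).IsStableUnderRetracts :=
      ⟨fun r hY => ObjectProperty.prop_of_retract (R.triangEnvelopeIter 0) (r.map F) hY⟩
    rw [ObjectProperty.retractClosure_le_iff]
    refine ObjectProperty.limitsClosure_le ?_
    rintro X ⟨Z, m, e, hZ⟩
    obtain ⟨em⟩ := hsh Z m
    exact ObjectProperty.prop_of_iso (R.triangEnvelopeIter 0) (F.mapIso e ≪≫ em).symm (shift_iter₀ m (h Z hZ))
  intro n
  induction n with
  | zero => exact h0
  | succ n ih =>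
    intro X hX
    rw [ObjectProperty.triangEnvelopeIter_succ] at hX ⊢
    obtain ⟨Y, hY, ⟨r⟩⟩ := hX
    obtain ⟨A, B, f, g, k, hT, hA, hB⟩ := (ObjectProperty.extensionProduct_iff _ _ _).1 hY
    obtain ⟨T', hT', ⟨e₁⟩, ⟨e₂⟩, ⟨e₃⟩⟩ := htri _ hT
    refine ⟨T'.obj₂, ?_, ⟨(r.map F).trans (Retract.ofIso e₂.symm)⟩⟩
    refine (ObjectProperty.extensionProduct_iff _ _ _).2 ⟨_, _, _, _, _, hT', ?_,
      ObjectProperty.prop_of_iso _ e₃.symm (ih B hB)⟩
    rw [← ObjectProperty.triangEnvelopeIter_zero] at hA ⊢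
    exact ObjectProperty.prop_of_iso _ e₁.symm (h0 A hA)

/-- A triangulated functor respects the filtration by numbers of extensions. -/
theorem map_iter (F : C ⥤ D) [F.CommShift ℤ] [F.IsTriangulated] (R : ObjectProperty D)
    (h : ∀ X, P X → R.triangEnvelopeIter 0 (F.obj X)) (n : ℕ) (X : C) (hX : P.triangEnvelopeIter n X) :
    R.triangEnvelopeIter n (F.obj X) :=
  map_iter' F (fun X m => ⟨(F.commShiftIso m).app X⟩)
    (fun T hT => ⟨_, F.map_distinguished T hT, ⟨Iso.refl _⟩, ⟨Iso.refl _⟩, ⟨Iso.refl _⟩⟩) R h n X hX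

end Groth.Agent.BoxLib
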