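import Groth.Agent.BoxLib.Resolve
import Mathlib.Algebra.Homology.DerivedCategory.SingleTriangle
import Mathlib.CategoryTheory.Triangulated.Subcategory
import Mathlib.CategoryTheory.Triangulated.Generators

/-!
# Objects with finite resolutions lie in the envelope of the covering objects
-/

set_option autoImplicit false
set_option backward.isDefEq.respectTransparency false

universe w v u

open CategoryTheory CategoryTheory.Limits CategoryTheory.Pretriangulated

noncomputable section

namespace Groth.Agent.BoxLib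

variable {A : Type u} [Category.{v} A] [Abelian A] [HasDerivedCategory.{w} A] {C B : A → Prop}
  (h : ∀ M, C M → ∃ (E : A) (π : E ⟶ M), B E ∧ Epi π ∧ C (kernel π)) (M : A) (hM : C M)

local notation "S" => DerivedCategory.singleFunctor A 0

theorem shortExact_syz (n : ℕ) :
    (ShortComplex.mk (syzι h M hM n) (covπ h M hM n) (syzι_covπ h M hM n)).ShortExact where
  exact := exact_syz h M hM n

/-- The iterated connecting morphism. -/
def iterδ : ∀ n : ℕ, (S).obj M ⟶ ((S).obj (syz h M hM n).1)⟦(n : ℤ)⟧
  | 0 => (shiftFunctorZero (DerivedCategory A) ℤ).inv.app _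
  | n + 1 => iterδ n ≫ ((shortExact_syz h M hM n).singleTriangle.mor₃)⟦(n : ℤ)⟧' ≫
      (shiftFunctorAdd' (DerivedCategory A) (1 : ℤ) (n : ℤ) ((n + 1 : ℕ) : ℤ) (by push_cast; exact add_comm _ _)).inv.app _

variable (Q : ObjectProperty (DerivedCategory A)) [Q.IsTriangulated] [Q.IsStableUnderRetracts]

include h in
theorem trW_iterδ : ∀ n : ℕ, (∀ i < n, Q ((S).obj (cov h M hM i))) → Q.trW (iterδ h M hM n)
  | 0, _ => by
    haveI : IsIso (iterδ h M hM 0) := inferInstanceAs (IsIso ((shiftFunctorZero (DerivedCategory A) ℤ).inv.app _))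
    exact MorphismProperty.of_isIso (P := Q.trW) _
  | n + 1, hB => by
    refine Q.trW.comp_mem _ _ (trW_iterδ n fun i hi => hB i (by omega)) (Q.trW.comp_mem _ _ ?_ (MorphismProperty.of_isIso (P := Q.trW) _))
    refine (MorphismProperty.IsCompatibleWithShift.iff Q.trW _ (n : ℤ)).2 ?_
    have hT := rot_of_distTriang _ (shortExact_syz h M hM n).singleTriangle_distinguished
    exact (Q.trW_iff_of_distinguished' _ hT).2 (hB n (Nat.lt_succ_self n))

include h hM in
/-- An object with a finite resolution lies in every triangulated retract closed class containing the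
covering objects. -/
theorem prop_of_resolution (N : ℕ) (hB : ∀ i < N, Q ((S).obj (cov h M hM i)))
    (hN : ∀ φ : (S).obj M ⟶ ((S).obj (syz h M hM N).1)⟦(N : ℤ)⟧, φ = 0) : Q ((S).obj M) := by
  have hw := trW_iterδ h M hM Q N hB
  obtain ⟨T, a, c, hT⟩ := distinguished_cocone_triangle₁ (iterδ h M hM N)
  have hQT : Q T := (Q.trW_iff_of_distinguished' _ hT).1 hw
  obtain ⟨s, hs⟩ := Triangle.coyoneda_exact₂ _ hT (𝟙 _) (by
    show 𝟙 _ ≫ iterδ h M hM N = 0
    rw [hN (iterδ h M hM N), comp_zero])
  exact ObjectProperty.prop_of_retract Q ⟨s, a, hs.symm⟩ hQT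

end Groth.Agent.BoxLib
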