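import Groth.Agent.BoxLib.SplitField
import Groth.Agent.BoxLib.Diag
import Groth.Agent.ProperTest.Main
import Groth.Agent.S13565
import Groth.Agent.FMKLib.ConvBC
import Groth.Agent.DCohLib.TensorComp
import Groth.Agent.DCohLib.LpullTensor
import Groth.Agent.FMPerfLib.Bounded
import Groth.Agent.DCohMore.PCTensorPush
import Groth.Agent.SiteCmpLib.Devissage

/-!
# Box products as kernels
-/

set_option autoImplicit false
set_option backward.isDefEq.respectTransparency false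
set_option linter.style.haveILetI false
set_option maxHeartbeats 2000000

universe u

open CategoryTheory CategoryTheory.Limits AlgebraicGeometry CategoryTheory.Pretriangulated

attribute [local instance] HasDerivedCategory.standard

noncomputable section

namespace Groth.Agent.BoxLib

open Groth.Agent.DCohLib Groth.Agent.DCohMore Groth.Agent.FMKLib

variable {X : Scheme.{u}}

theorem isKFlat_sgl_flf {M : X.Modules} (h : FlatMod.IsFinLocFree M) : DCoh.IsKFlat (sgl₀ M) :=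
  (DCohLib.isKFlat_iff _).2 (Groth.Agent.KFlat.isKFlat_single _ 0 ((isFlat_iff _).1 (isFlat_of_flf h)))

/-- Tensor products of modules in degree zero. -/
def sglTensorIso (A B : X.Modules) :
    DCoh.inD X (CohB1.tensorMod A B) ≅ DerivedCategory.Q.obj ((DCoh.tensorCx.obj (sgl₀ A)).obj (sgl₀ B)) :=
  (DerivedCategory.singleFunctorIsoCompQ X.Modules 0).app _ ≪≫ DerivedCategory.Q.mapIso
    (((HomologicalComplex.singleMapHomologicalComplex ((DCoh.tensorBi (X := X)).flip.obj B) (ComplexShape.up ℤ) 0).app A).symm ≪≫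
      (totSingleNatIso B).app (sgl₀ A))

/-- Derived tensor products with two complexes commute. -/
theorem nonempty_lTensor_comm (K L : CochainComplex X.Modules ℤ) (hK : DCoh.IsKFlat K) (hL : DCoh.IsKFlat L)
    [DCoh.HasLTensorCx K] [DCoh.HasLTensorCx L] (E : DCoh.D X) :
    Nonempty ((DCoh.LTensorCx L).obj ((DCoh.LTensorCx K).obj E) ≅ (DCoh.LTensorCx K).obj ((DCoh.LTensorCx L).obj E)) := by
  haveI := hasLTensorCx ((DCoh.tensorCx.obj K).obj L)
  haveI := hasLTensorCx ((DCoh.tensorCx.obj L).obj K)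
  obtain ⟨a⟩ := nonempty_lTensorCompIso K L hL
  obtain ⟨b⟩ := nonempty_lTensorCompIso L K hK
  obtain ⟨c⟩ := nonempty_lTensor_of_iso (E := (DCoh.tensorCx.obj L).obj K) (E' := (DCoh.tensorCx.obj K).obj L)
    (DerivedCategory.Q.mapIso (TildeD.tensorCxSymm K L))
  exact ⟨a.app E ≪≫ c.app E ≪≫ (b.app E).symm⟩

theorem additive_lTensorCx (N : CochainComplex X.Modules ℤ) (hN : DCoh.IsKFlat N) [DCoh.HasLTensorCx N] :
    (DCoh.LTensorCx N).Additive := by
  haveI := hasRSheafHom_of_isKFlat N hN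
  haveI : PreservesColimitsOfSize.{0, 0} (DCoh.LTensorCx N) := (DCoh.RSheafHomAdj N).leftAdjoint_preservesColimits
  haveI : PreservesBinaryBiproducts (DCoh.LTensorCx N) := preservesBinaryBiproducts_of_preservesBinaryCoproducts _
  exact Functor.additive_of_preservesBinaryBiproducts _

theorem tri_lTensorCx (N : CochainComplex X.Modules ℤ) [DCoh.HasLTensorCx N] (T : Triangle (DCoh.D X))
    (hT : T ∈ distTriang _) :
    ∃ T' ∈ distTriang (DCoh.D X), Nonempty (T'.obj₁ ≅ (DCoh.LTensorCx N).obj T.obj₁) ∧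
      Nonempty (T'.obj₂ ≅ (DCoh.LTensorCx N).obj T.obj₂) ∧ Nonempty (T'.obj₃ ≅ (DCoh.LTensorCx N).obj T.obj₃) := by
  obtain ⟨T', hT', ⟨e₁⟩, ⟨e₂⟩, ⟨e₃⟩⟩ := exists_lTensorCx_triangle N T.invRotate (inv_rot_of_distTriang T hT)
  exact ⟨T', hT', ⟨e₁⟩, ⟨e₂⟩, ⟨e₃ ≪≫ (DCoh.LTensorCx N).mapIso
    ((shiftFunctorCompIsoId (DCoh.D X) (-1) 1 (by norm_num)).app T.obj₃)⟩⟩

variable {S : Scheme.{u}}

/-- The transform along a box product. -/
theorem nonempty_phi_box (s : X ⟶ S) [Flat s] [QuasiCompact s] [QuasiSeparated s] {E G : X.Modules}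
    (hE : FlatMod.IsFinLocFree E) (hG : FlatMod.IsFinLocFree G) (A : CochainComplex X.Modules ℤ) (hA : DCoh.IsKFlat A)
    (hAp : DCoh.IsPerfect (DerivedCategory.Q.obj A)) (Kp : CochainComplex (pullback s s).Modules ℤ)
    (hKp : DCoh.IsKFlat Kp) [DCoh.HasLpull (pullback.fst s s)] [DCoh.HasLpull s] [DCoh.HasRpush s]
    [DCoh.HasRpush (pullback.snd s s)] [DCoh.HasLTensorCx A] [DCoh.HasLTensorCx Kp] [DCoh.HasLTensorCx (sgl₀ G)]
    (eKp : DerivedCategory.Q.obj Kp ≅ (DCoh.Lpull (pullback.fst s s)).obj (DerivedCategory.Q.obj A)) :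
    Nonempty ((DCoh.Rpush (pullback.snd s s)).obj ((DCoh.LTensorCx Kp).obj (DCoh.inD (pullback s s)
        (CohB1.tensorMod ((Scheme.Modules.pullback (pullback.fst s s)).obj E)
          ((Scheme.Modules.pullback (pullback.snd s s)).obj G)))) ≅
      (DCoh.LTensorCx (sgl₀ G)).obj ((DCoh.Lpull s).obj ((DCoh.Rpush s).obj
        ((DCoh.LTensorCx A).obj (DCoh.inD X E))))) := by
  let P := pullback s s
  let p := pullback.fst s s
  let q := pullback.snd s s
  let PE := (Scheme.Modules.pullback p).obj E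
  let QG := (Scheme.Modules.pullback q).obj G
  have hPE : FlatMod.IsFinLocFree PE := PullbackMod.isFinLocFree_pullback _ _ hE
  have hQG : FlatMod.IsFinLocFree QG := PullbackMod.isFinLocFree_pullback _ _ hG
  haveI := hasLpull q
  haveI := hasLTensorCx (sgl₀ QG)
  let W := (DCoh.LTensorCx A).obj (DCoh.inD X E)
  have hW : DCoh.IsPerfect W := isPerfect_lTensor A hA hAp _ (isPerfect_inD hE)
  let oE := (DerivedCategory.singleFunctorIsoCompQ P.Modules 0).app PE
  let c1 : DCoh.inD P (CohB1.tensorMod PE QG) ≅ (DCoh.LTensorCx (sgl₀ QG)).obj (DCoh.inD P PE) :=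
    sglTensorIso PE QG ≪≫ ((lTensorQIso (sgl₀ QG) (isKFlat_sgl_flf hQG)).app (sgl₀ PE)).symm ≪≫
      (DCoh.LTensorCx (sgl₀ QG)).mapIso oE.symm
  obtain ⟨c2⟩ := nonempty_lTensor_comm (sgl₀ QG) Kp (isKFlat_sgl_flf hQG) hKp (DCoh.inD P PE)
  haveI : IsIso ((BC.lamN p 0).app E) := BC.isIso_lamN_app_flat p 0 _ (isFlat_of_flf hE)
  haveI : IsIso ((BC.lamN q 0).app G) := BC.isIso_lamN_app_flat q 0 _ (isFlat_of_flf hG)
  obtain ⟨c3⟩ := nonempty_lpull_lTensor_obj p A Kp eKp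
    (DCoh.inD X E)
  let c3' : (DCoh.LTensorCx Kp).obj (DCoh.inD P PE) ≅ (DCoh.Lpull p).obj W :=
    (DCoh.LTensorCx Kp).mapIso (asIso ((BC.lamN p 0).app E)).symm ≪≫ c3.symm
  obtain ⟨pf⟩ := nonempty_proj_left q (sgl₀ G) (isQCohD_sgl₀ G (PullbackMod.isQCoh_and_isFP_of_isFinLocFree G hG).1)
    (sgl₀ QG) (((DerivedCategory.singleFunctorIsoCompQ P.Modules 0).app QG).symm ≪≫
      (asIso ((BC.lamN q 0).app G)).symm ≪≫
      (DCoh.Lpull q).mapIso ((DerivedCategory.singleFunctorIsoCompQ X.Modules 0).app G))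
  obtain ⟨bc⟩ := nonempty_baseChange_qcoh s s q p (IsPullback.of_hasPullback s s) BC.TI.of_flat
  have hWq : DCoh.IsQCohD W := DCohMore.isQCohD_of_isPerfect hW
  have hLW : DCoh.IsQCohD ((DCoh.Lpull p).obj W) := DCohMore.isQCohD_of_isPerfect (isPerfect_lpull p W hW)
  let c4 : (DCoh.Rpush q).obj ((DCoh.LTensorCx Kp).obj (DCoh.inD P (CohB1.tensorMod PE QG))) ≅
      (DCoh.LTensorCx (sgl₀ G)).obj ((DCoh.Lpull s).obj ((DCoh.Rpush s).obj W)) :=
    (DCoh.Rpush q).mapIso ((DCoh.LTensorCx Kp).mapIso c1 ≪≫ c2 ≪≫ (DCoh.LTensorCx (sgl₀ QG)).mapIso c3') ≪≫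
      (pf.app ⟨_, hLW⟩).symm ≪≫ (DCoh.LTensorCx (sgl₀ G)).mapIso (bc.app ⟨W, hWq⟩).symm
  exact ⟨c4⟩

/-- The diagonal as a kernel, with the object resolved. -/
theorem nonempty_phi_diag (s : X ⟶ S) [IsSeparated s] (K : DCoh.D X) (Kp : CochainComplex (pullback s s).Modules ℤ)
    (hKp : DCoh.IsKFlat Kp) [DCoh.HasLpull (pullback.fst s s)] [DCoh.HasRpush (pullback.snd s s)]
    [DCoh.HasLTensorCx Kp] (eKp : DerivedCategory.Q.obj Kp ≅ (DCoh.Lpull (pullback.fst s s)).obj K) :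
    Nonempty ((DCoh.Rpush (pullback.snd s s)).obj ((DCoh.LTensorCx Kp).obj (DCoh.inD (pullback s s)
      ((Coh.push (pullback.diagonal s)).obj (Coh.structureModule X)))) ≅ K) := by
  let D := sgl₀ ((Coh.push (pullback.diagonal s)).obj (Coh.structureModule X))
  haveI := hasLTensorCx D
  let oD := (DerivedCategory.singleFunctorIsoCompQ (pullback s s).Modules 0).app
    ((Coh.push (pullback.diagonal s)).obj (Coh.structureModule X))
  obtain ⟨φ⟩ := S13565.result s D ⟨oD.symm⟩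
  obtain ⟨sd⟩ := FMPerfLib.nonempty_lTensorCx_symm D ((DCoh.Lpull (pullback.fst s s)).obj K) Kp hKp eKp
  exact ⟨(DCoh.Rpush _).mapIso ((DCoh.LTensorCx Kp).mapIso oD ≪≫ sd.symm) ≪≫ φ.app K⟩

end Groth.Agent.BoxLib
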