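import Mathlib.CategoryTheory.Abelian.Basic
import Mathlib.Algebra.Homology.SingleHomology
import Mathlib.Algebra.Homology.QuasiIso
import Mathlib.Algebra.Homology.ShortComplex.Abelian
import Mathlib.CategoryTheory.Abelian.Projective.Resolution

/-!
# Left resolutions by a class of objects
-/

set_option autoImplicit false
set_option backward.isDefEq.respectTransparency false
set_option backward.defeqAttrib.useBackward true

universe v u

open CategoryTheory CategoryTheory.Limits

noncomputable section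

namespace Groth.Agent.BoxLib

variable {A : Type u} [Category.{v} A] [Abelian A] {C B : A → Prop}
  (h : ∀ M, C M → ∃ (E : A) (π : E ⟶ M), B E ∧ Epi π ∧ C (kernel π)) (M : A) (hM : C M)

/-- The iterated kernels of the chosen covers. -/
def syz : ℕ → {M : A // C M}
  | 0 => ⟨M, hM⟩
  | n + 1 => ⟨kernel (h _ (syz n).2).choose_spec.choose, (h _ (syz n).2).choose_spec.choose_spec.2.2⟩

/-- The chosen covering object. -/
def cov (n : ℕ) : A := (h _ (syz h M hM n).2).choose

/-- The chosen cover. -/
def covπ (n : ℕ) : cov h M hM n ⟶ (syz h M hM n).1 := (h _ (syz h M hM n).2).choose_spec.choose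

instance epi_covπ (n : ℕ) : Epi (covπ h M hM n) := (h _ (syz h M hM n).2).choose_spec.choose_spec.2.1

/-- The inclusion of a syzygy. -/
def syzι (n : ℕ) : (syz h M hM (n + 1)).1 ⟶ cov h M hM n := kernel.ι (covπ h M hM n)

instance mono_syzι (n : ℕ) : Mono (syzι h M hM n) := inferInstanceAs (Mono (kernel.ι (covπ h M hM n)))

@[reassoc]
theorem syzι_covπ (n : ℕ) : syzι h M hM n ≫ covπ h M hM n = 0 := kernel.condition _

/-- The resolution. -/
def resCx : ChainComplex A ℕ :=
  ChainComplex.of (cov h M hM) (fun n => covπ h M hM (n + 1) ≫ syzι h M hM n)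
    fun n => by rw [Category.assoc, syzι_covπ_assoc, zero_comp, comp_zero]

theorem exact_syz (n : ℕ) : (ShortComplex.mk (syzι h M hM n) (covπ h M hM n) (syzι_covπ h M hM n)).Exact :=
  ShortComplex.exact_of_f_is_kernel _ (kernelIsKernel _)

theorem exact_cover (n : ℕ) : (ShortComplex.mk (covπ h M hM (n + 1) ≫ syzι h M hM n) (covπ h M hM n)
    (by rw [Category.assoc, syzι_covπ, comp_zero])).Exact :=
  (ShortComplex.exact_iff_of_epi_of_isIso_of_mono
    ({ τ₁ := covπ h M hM (n + 1), τ₂ := 𝟙 _, τ₃ := 𝟙 _ } :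
      ShortComplex.mk (covπ h M hM (n + 1) ≫ syzι h M hM n) (covπ h M hM n)
        (by rw [Category.assoc, syzι_covπ, comp_zero]) ⟶ ShortComplex.mk _ _ (syzι_covπ h M hM n))).2
    (exact_syz h M hM n)

theorem exact_step (n : ℕ) : (ShortComplex.mk (covπ h M hM (n + 2) ≫ syzι h M hM (n + 1))
    (covπ h M hM (n + 1) ≫ syzι h M hM n)
    (by rw [Category.assoc, syzι_covπ_assoc, zero_comp, comp_zero])).Exact :=
  (ShortComplex.exact_iff_of_epi_of_isIso_of_mono
    ({ τ₁ := 𝟙 _, τ₂ := 𝟙 _, τ₃ := syzι h M hM n } :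
      ShortComplex.mk (covπ h M hM (n + 2) ≫ syzι h M hM (n + 1)) (covπ h M hM (n + 1))
        (by rw [Category.assoc, syzι_covπ, comp_zero]) ⟶
      ShortComplex.mk (covπ h M hM (n + 2) ≫ syzι h M hM (n + 1)) (covπ h M hM (n + 1) ≫ syzι h M hM n)
        (by rw [Category.assoc, syzι_covπ_assoc, zero_comp, comp_zero]))).1 (exact_cover h M hM (n + 1))

theorem resCx_d (n : ℕ) : (resCx h M hM).d (n + 1) n = covπ h M hM (n + 1) ≫ syzι h M hM n :=
  ChainComplex.of_d (cov h M hM) (fun n => covπ h M hM (n + 1) ≫ syzι h M hM n) n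

include h hM in
/-- Every object of the class has a left resolution by covering objects. -/
theorem exists_leftResolution : ∃ (K : ChainComplex A ℕ) (π : K ⟶ (ChainComplex.single₀ A).obj M),
    QuasiIso π ∧ ∀ n, B (K.X n) := by
  refine ⟨resCx h M hM, (ChainComplex.toSingle₀Equiv _ _).symm ⟨covπ h M hM 0, ?_⟩, ⟨fun n => ?_⟩,
    fun n => (h _ (syz h M hM n).2).choose_spec.choose_spec.1⟩
  · rw [resCx_d]
    exact (Category.assoc _ _ _).trans (by rw [syzι_covπ, comp_zero])
  cases n with
  | zero =>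
    rw [ChainComplex.quasiIsoAt₀_iff, ShortComplex.quasiIso_iff_of_zeros']
    · dsimp
      refine (ShortComplex.exact_and_epi_g_iff_of_iso ?_).2 ⟨exact_cover h M hM 0, epi_covπ h M hM 0⟩
      refine ShortComplex.isoMk (Iso.refl _) (Iso.refl _) (Iso.refl _) ?_ (by simp)
      simp [resCx_d]
    all_goals rfl
  | succ n =>
    rw [quasiIsoAt_iff_exactAt' _ _ (ChainComplex.exactAt_succ_single_obj _ _)]
    rw [HomologicalComplex.exactAt_iff' _ (n + 1 + 1) (n + 1) n (by simp) (by simp)]
    refine (ShortComplex.exact_iff_of_iso ?_).1 (exact_step h M hM n)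
    refine ShortComplex.isoMk (Iso.refl _) (Iso.refl _) (Iso.refl _) ?_ ?_
    · simp [resCx_d]
    · simp [resCx_d]

end Groth.Agent.BoxLib
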