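import Groth.Agent.BoxLib.Kernel
import Groth.Agent.BoxLib.SplitField
import Groth.Agent.BoxLib.Diag
import Groth.Agent.ProperTest.Main
import Groth.Agent.S13565
import Groth.Agent.FMKLib.ConvBC
import Groth.Agent.DCohLib.TensorComp
import Groth.Agent.DCohLib.LpullTensor
import Groth.Agent.FMPerfLib.Bounded
import Groth.Agent.DCohMore.PCTensorPush
import Groth.Agent.SiteCmpLib.Devissage

/-!
# Strong generators of perfect objects on smooth proper schemes over a field
-/

set_option autoImplicit false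
set_option backward.isDefEq.respectTransparency false
set_option linter.style.haveILetI false
set_option maxHeartbeats 2000000

universe u

open CategoryTheory CategoryTheory.Limits AlgebraicGeometry CategoryTheory.Pretriangulated

attribute [local instance] HasDerivedCategory.standard

noncomputable section

namespace Groth.Agent.BoxLib

open Groth.Agent.DCohLib Groth.Agent.DCohMore Groth.Agent.FMKLib

variable {X : Scheme.{u}}

/-- Strong generation. -/
theorem exists_strong_generator (k : Type u) [Field k] (X : Scheme.{u}) [X.Over (Spec (.of k))]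
    [IsProper (X ↘ Spec (.of k))] [Smooth (X ↘ Spec (.of k))] :
    ∃ (E : DCoh.D X) (n : ℕ), DCoh.IsPerfect E ∧
      ∀ K : DCoh.D X, DCoh.IsPerfect K →
        ObjectProperty.triangEnvelopeIter (ObjectProperty.ofObj (fun _ : PUnit.{u + 1} => E)) n K := by
  let s := X ↘ Spec (CommRingCat.of k)
  haveI : IsLocallyNoetherian X := LocallyOfFiniteType.isLocallyNoetherian s
  haveI : CompactSpace X := QuasiCompact.compactSpace_of_compactSpace s
  haveI : IsNoetherian X := {}
  haveI : IsNoetherian (Spec (CommRingCat.of k)) := {}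
  obtain ⟨E, G, hE, hG, hΔ⟩ := diagonal_mem_envelope k X
  obtain ⟨n, hn⟩ := (ObjectProperty.prop_triangEnvelope_iff _ _).1 hΔ
  refine ⟨DCoh.inD X G, n, isPerfect_inD hG, fun K hK => ?_⟩
  let P := pullback s s
  let p := pullback.fst s s
  let q := pullback.snd s s
  let PE := (Scheme.Modules.pullback p).obj E
  let QG := (Scheme.Modules.pullback q).obj G
  have hPE : FlatMod.IsFinLocFree PE := PullbackMod.isFinLocFree_pullback _ _ hE
  have hQG : FlatMod.IsFinLocFree QG := PullbackMod.isFinLocFree_pullback _ _ hG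
  haveI := hasLpull p
  haveI := hasLpull q
  haveI := hasLpull s
  haveI := BC.hasRpush q
  haveI := BC.hasRpush s
  let A := (resX X).obj (DerivedCategory.Q.objPreimage K)
  have hA : DCoh.IsKFlat A := isKFlat_resX _
  let Kp := (resX P).obj (DerivedCategory.Q.objPreimage ((DCoh.Lpull p).obj K))
  have hKp : DCoh.IsKFlat Kp := isKFlat_resX _
  haveI := hasLTensorCx A
  haveI := hasLTensorCx Kp
  haveI := hasLTensorCx (sgl₀ G)
  haveI := additive_lTensorCx Kp hKp
  haveI : SiteCmp.HasRpushD (ModSite.RMor.ofScheme q) := ‹DCoh.HasRpush q›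
  obtain ⟨h₁, h₂⟩ := SiteCmpLib.exists_triangulated_rpushD (ModSite.RMor.ofScheme q)
  letI : (DCoh.Rpush q).CommShift ℤ := h₁
  haveI : (DCoh.Rpush q).IsTriangulated := h₂
  -- the box product goes to a finite sum of shifts of the generator
  have hbox : ObjectProperty.triangEnvelopeIter (ObjectProperty.ofObj (fun _ : PUnit.{u + 1} => DCoh.inD X G)) 0
      ((DCoh.Rpush q).obj ((DCoh.LTensorCx Kp).obj (DCoh.inD P (CohB1.tensorMod PE QG)))) := by
    let W := (DCoh.LTensorCx A).obj (DCoh.inD X E)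
    have hW : DCoh.IsPerfect W := isPerfect_lTensor A hA (isPerfect_iso (resXIso K).symm hK) _ (isPerfect_inD hE)
    obtain ⟨c4⟩ := nonempty_phi_box s hE hG A hA (isPerfect_iso (resXIso K).symm hK) Kp hKp
      (resXIso _ ≪≫ (DCoh.Lpull p).mapIso (resXIso K).symm)
    refine ObjectProperty.prop_of_iso _ c4.symm ?_
    have hR : DCoh.IsPerfect ((DCoh.Rpush s).obj W) := by
      letI : (Spec (CommRingCat.of k)).Over (Spec (CommRingCat.of k)) := ⟨𝟙 _⟩
      haveI : Smooth ((Spec (CommRingCat.of k)) ↘ Spec (CommRingCat.of k)) := inferInstanceAs (Smooth (𝟙 _))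
      exact ProperTest.isPerfect_rpush_of_regular s (fun z => S1535.result k (Spec (CommRingCat.of k)) z) W hW
    haveI : SiteCmp.HasRpushD (ModSite.RMor.ofScheme s) := ‹DCoh.HasRpush s›
    obtain ⟨h₁', h₂'⟩ := SiteCmpLib.exists_triangulated_rpushD (ModSite.RMor.ofScheme s)
    letI : (DCoh.Rpush s).CommShift ℤ := h₁'
    haveI : (DCoh.Rpush s).IsTriangulated := h₂'
    letI : (DCoh.Lpull s).CommShift ℤ := (lpullRpushAdj s).leftAdjointCommShift ℤ
    haveI := (lpullRpushAdj s).commShift_of_rightAdjoint ℤ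
    haveI := (lpullRpushAdj s).isTriangulated_leftAdjoint
    haveI := additive_lTensorCx (sgl₀ G) (isKFlat_sgl_flf hG)
    haveI : IsIso ((BC.lamN s 0).app (Coh.structureModule (Spec (CommRingCat.of k)))) :=
      BC.isIso_lamN_app_flat s 0 _ ((isFlat_iff _).2 (SiteBase.ExtZeroPre.isFlat_unit (Spec (CommRingCat.of k)).sheaf))
    let eU : (DCoh.Lpull s).obj (DCoh.inD _ (Coh.structureModule (Spec (CommRingCat.of k)))) ≅
        DCoh.inD X (Coh.structureModule X) :=
      asIso ((BC.lamN s 0).app (Coh.structureModule _)) ≪≫ (BC.TT X 0).mapIso (pullStructureIso s)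
    obtain ⟨sy⟩ := nonempty_symCxSch (unitCx X) (sgl₀ G)
    haveI := isIso_lTensorCounit_app_of_isKFlat (sgl₀ G) (isKFlat_sgl_flf hG) (unitCx X)
    let eG : (DCoh.LTensorCx (sgl₀ G)).obj ((DCoh.Lpull s).obj (DCoh.inD _ (Coh.structureModule (Spec (CommRingCat.of k))))) ≅
        DCoh.inD X G :=
      (DCoh.LTensorCx (sgl₀ G)).mapIso (eU ≪≫ unitDIso) ≪≫ asIso ((lTensorCounit (sgl₀ G)).app (unitCx X)) ≪≫
        DerivedCategory.Q.mapIso (sy ≪≫ tensorUnitCxIso.app (sgl₀ G)) ≪≫
        ((DerivedCategory.singleFunctorIsoCompQ X.Modules 0).app G).symm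
    refine map_iter' (DCoh.LTensorCx (sgl₀ G)) (fun V m => ⟨FMPerfLib.lTensorShift _ (isKFlat_sgl_flf hG) V m⟩)
      (fun T hT => tri_lTensorCx _ T hT) _
      (P := ObjectProperty.ofObj fun _ : PUnit.{u + 1} => (DCoh.Lpull s).obj (DCoh.inD _ (Coh.structureModule (Spec (CommRingCat.of k)))))
      (fun V hV => ?_) 0 _ (map_iter (DCoh.Lpull s) _ (fun V hV => ?_) 0 _
        (iter₀_of_isPerfect (Field.toIsField k) _ hR))
    · obtain ⟨⟨⟩⟩ := hV
      exact ObjectProperty.prop_of_iso _ eG.symm (ObjectProperty.le_triangEnvelopeIter _ 0 _ (ObjectProperty.ofObj_apply _ PUnit.unit))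
    · obtain ⟨⟨⟩⟩ := hV
      exact ObjectProperty.le_triangEnvelopeIter _ 0 _ (ObjectProperty.ofObj_apply _ PUnit.unit)
  -- transport along the kernel
  let boxP := DCoh.inD P (CohB1.tensorMod PE QG)
  have h2 := map_iter' (DCoh.LTensorCx Kp) (fun V m => ⟨FMPerfLib.lTensorShift _ hKp V m⟩)
    (fun T hT => tri_lTensorCx _ T hT) (ObjectProperty.ofObj fun _ : PUnit.{u + 1} => (DCoh.LTensorCx Kp).obj boxP)
    (fun V hV => by
      obtain ⟨⟨⟩⟩ := hV
      exact ObjectProperty.le_triangEnvelopeIter _ 0 _ (ObjectProperty.ofObj_apply _ PUnit.unit)) n _ hn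
  have h3 := map_iter (DCoh.Rpush q) (ObjectProperty.ofObj fun _ : PUnit.{u + 1} => DCoh.inD X G)
    (fun V hV => by
      obtain ⟨⟨⟩⟩ := hV
      exact hbox) n _ h2
  obtain ⟨φ⟩ := nonempty_phi_diag s K Kp hKp (resXIso _)
  exact ObjectProperty.prop_of_iso _ φ h3

end Groth.Agent.BoxLib
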